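import Groth.Agent.SepFlat5.Core
import Mathlib.AlgebraicGeometry.Morphisms.Flat
import Mathlib.AlgebraicGeometry.Morphisms.FinitePresentation
import Mathlib.AlgebraicGeometry.PullbackCarrier
import Mathlib.RingTheory.IsTensorProduct

/-!
# Schematically dominant families and flat base change of finite presentation
-/

set_option backward.isDefEq.respectTransparency false
set_option backward.isDefEq.respectTransparency.types false
set_option linter.style.haveILetI false

universe u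

open CategoryTheory CategoryTheory.Limits AlgebraicGeometry TopologicalSpace Opposite
open scoped TensorProduct

namespace Groth.Agent.SepFlat5

/-- Sections of a fibre product of affines over an affine are the tensor product of the sections. -/
theorem exists_equiv {S X Y P : Scheme.{u}} {p : X ⟶ S} {q : Y ⟶ S} {a : P ⟶ X} {b : P ⟶ Y}
    (H : IsPullback a b p q) {V : S.Opens} (hV : IsAffineOpen V) {U : X.Opens} (hU : IsAffineOpen U)
    (hUV : U ≤ p ⁻¹ᵁ V) {O : Y.Opens} (hO : IsAffineOpen O) (hOV : O ≤ q ⁻¹ᵁ V) {W : P.Opens}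
    (hW : W = a ⁻¹ᵁ U ⊓ b ⁻¹ᵁ O) :
    letI := (p.appLE V U hUV).hom.toAlgebra
    letI := (q.appLE V O hOV).hom.toAlgebra
    ∃ e : Γ(X, U) ⊗[Γ(S, V)] Γ(Y, O) ≃+* Γ(P, W),
      ∀ x y, e (x ⊗ₜ y) = a.appLE U W (hW.le.trans inf_le_left) x * b.appLE O W (hW.le.trans inf_le_right) y := by
  letI := (p.appLE V U hUV).hom.toAlgebra
  letI := (q.appLE V O hOV).hom.toAlgebra
  have hpo := (isIso_pushoutSection_iff H hOV hUV hW).mp
    (isIso_pushoutSection_of_isAffineOpen H hOV hUV hW hV hO hU)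
  letI : Algebra Γ(X, U) Γ(P, W) := (a.appLE U W (hW.le.trans inf_le_left)).hom.toAlgebra
  letI : Algebra Γ(Y, O) Γ(P, W) := (b.appLE O W (hW.le.trans inf_le_right)).hom.toAlgebra
  letI : Algebra Γ(S, V) Γ(P, W) :=
    (p.appLE V U hUV ≫ a.appLE U W (hW.le.trans inf_le_left)).hom.toAlgebra
  haveI : IsScalarTower Γ(S, V) Γ(X, U) Γ(P, W) := .of_algebraMap_eq fun _ => rfl
  haveI : IsScalarTower Γ(S, V) Γ(Y, O) Γ(P, W) := .of_algebraMap_eq fun r => congr($(hpo.w).hom r)
  haveI : Algebra.IsPushout Γ(S, V) Γ(X, U) Γ(Y, O) Γ(P, W) :=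
    CommRingCat.isPushout_iff_isPushout.mp hpo
  exact ⟨(Algebra.IsPushout.equiv Γ(S, V) Γ(X, U) Γ(Y, O) Γ(P, W)).toRingEquiv,
    fun x y => Algebra.IsPushout.equiv_tmul _ _ _ _ x y⟩

/-- Base change of a schematically dominant family along a flat morphism locally of finite presentation. -/
theorem schDominant_pullback {X X' : Scheme.{u}} {ι : Type u} (Z : ι → Scheme.{u}) (f : ∀ i, Z i ⟶ X)
    (g : X' ⟶ X) [Flat g] [LocallyOfFinitePresentation g]
    (h : ∀ (V : X.Opens) (t : Γ(X, V)), (∀ i, (f i).app V t = 0) → t = 0)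
    (V : X'.Opens) (t : Γ(X', V)) (ht : ∀ i, (pullback.snd (f i) g).app V t = 0) : t = 0 := by
  refine TopCat.Presheaf.section_ext X'.sheaf V t 0 fun z hz => ?_
  obtain ⟨U, hU, hzU, -⟩ := exists_isAffineOpen_mem_and_subset (x := g z) (U := ⊤) trivial
  obtain ⟨W, hW, hzW, hle⟩ := exists_isAffineOpen_mem_and_subset (x := z) (U := V ⊓ g ⁻¹ᵁ U) ⟨hz, hzU⟩
  have hWV : W ≤ V := fun y hy => (hle hy).1
  have hWU : W ≤ g ⁻¹ᵁ U := fun y hy => (hle hy).2
  suffices h0 : X'.presheaf.map (homOfLE hWV).op t = 0 by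
    refine (X'.presheaf.germ_res_apply (homOfLE hWV) z hzW t).symm.trans ?_
    exact (congrArg _ h0).trans ((map_zero _).trans (map_zero _).symm)
  letI := (g.appLE U W hWU).hom.toAlgebra
  haveI : Module.Flat Γ(X, U) Γ(X', W) := g.flat_appLE hU hW hWU
  haveI : Algebra.FinitePresentation Γ(X, U) Γ(X', W) := g.finitePresentation_appLE hU hW hWU
  let J : Type u := (i : ι) × {W₀ : (Z i).Opens // IsAffineOpen W₀ ∧ W₀ ≤ f i ⁻¹ᵁ U}
  let C : J → Type u := fun j => Γ(Z j.1, j.2.1)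
  letI : ∀ j : J, Algebra Γ(X, U) (C j) := fun j => ((f j.1).appLE U j.2.1 j.2.2.2).hom.toAlgebra
  let v : ∀ j : J, Γ(X, U) →ₗ[Γ(X, U)] C j := fun j => Algebra.linearMap Γ(X, U) (C j)
  have hv : Detects v := by
    intro c x hcx
    haveI := hU.isLocalization_basicOpen c
    have h0 : algebraMap Γ(X, U) Γ(X, X.basicOpen c) x = 0 := by
      refine h _ _ fun i => ?_
      refine TopCat.Presheaf.section_ext (Z i).sheaf _ _ 0 fun w hw => ?_
      obtain ⟨W₀, hW₀, hwW, hle⟩ := exists_isAffineOpen_mem_and_subset (x := w) (U := f i ⁻¹ᵁ X.basicOpen c) hw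
      have hle' : W₀ ≤ f i ⁻¹ᵁ U := fun y hy => X.basicOpen_le c (hle hy)
      obtain ⟨m, hm⟩ := hcx ⟨i, W₀, hW₀, hle'⟩
      have hu : IsUnit ((f i).appLE U W₀ hle' c) := by
        have h1 := (RingedSpace.isUnit_res_basicOpen X.toRingedSpace c).map ((f i).appLE (X.basicOpen c) W₀ hle).hom
        rw [show ((f i).appLE U W₀ hle' c) =
          (f i).appLE (X.basicOpen c) W₀ hle (X.presheaf.map (homOfLE (X.basicOpen_le c)).op c) from
          congr($((Scheme.Hom.map_appLE (f i) hle (homOfLE (X.basicOpen_le c)).op)).hom c).symm]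
        exact h1
      have hx0 : (f i).appLE U W₀ hle' x = 0 := by
        have hm' : (f i).appLE U W₀ hle' (c ^ m) * (f i).appLE U W₀ hle' x = 0 := by
          rw [← hm]
          exact (Algebra.smul_def (A := C ⟨i, W₀, hW₀, hle'⟩) (c ^ m) _).symm
        rw [map_pow, (hu.pow m).mul_right_eq_zero] at hm'
        exact hm'
      refine ((Z i).presheaf.germ_res_apply (homOfLE fun y hy => hle hy) w hwW _).symm.trans ?_
      refine (congrArg _ ?_).trans ((map_zero _).trans (map_zero _).symm)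
      refine Eq.trans ?_ hx0
      exact congr($((Scheme.Hom.map_appLE (f i) hle (homOfLE (X.basicOpen_le c)).op)).hom x)
    obtain ⟨⟨_, M, rfl⟩, hM⟩ := (IsLocalization.map_eq_zero_iff (Submonoid.powers c) Γ(X, X.basicOpen c) x).1 h0
    exact ⟨M, hM⟩
  have key := eq_zero_of_flat_finitePresentation v hv ((1 : Γ(X, U)) ⊗ₜ[Γ(X, U)] X'.presheaf.map (homOfLE hWV).op t)
    fun j => by
    obtain ⟨i, W₀, hW₀, hle₀⟩ := j
    letI := ((f i).appLE U W₀ hle₀).hom.toAlgebra
    let W₁ := pullback.fst (f i) g ⁻¹ᵁ W₀ ⊓ pullback.snd (f i) g ⁻¹ᵁ W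
    obtain ⟨e, he⟩ := exists_equiv (IsPullback.of_hasPullback (f i) g) hU hW₀ hle₀ hW hWU (W := W₁) rfl
    refine e.injective ?_
    rw [map_zero, LinearMap.rTensor_tmul]
    show e ((algebraMap Γ(X, U) Γ(Z i, W₀) 1) ⊗ₜ _) = 0
    rw [map_one, he, map_one, one_mul, ← ConcreteCategory.comp_apply, Scheme.Hom.map_appLE,
      Scheme.Hom.appLE, ConcreteCategory.comp_apply, ht i]
    exact map_zero _
  have h1 := congrArg (TensorProduct.lid Γ(X, U) Γ(X', W)) key
  rwa [TensorProduct.lid_tmul, one_smul, map_zero] at h1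

end Groth.Agent.SepFlat5
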