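import Groth.Agent.SepFlat5.Core
import Groth.Agent.ZClosLib.FlatPullback
import Groth.Agent.QCoh.SubCompare
import Groth.Agent.QCoh.FT

/-!
# Separating families of homomorphisms of quasi-coherent modules and base change
-/

set_option backward.isDefEq.respectTransparency false
set_option backward.isDefEq.respectTransparency.types false
set_option linter.style.haveILetI false

universe u

open CategoryTheory CategoryTheory.Limits AlgebraicGeometry TopologicalSpace Opposite
open scoped TensorProduct

namespace Groth.Agent.SepFlat5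

/-- Detecting families stay jointly injective after tensoring with `C`. -/
def SepBC (A C : Type u) [CommRing A] [CommRing C] [Algebra A C] : Prop :=
  ∀ (M : Type u) [AddCommGroup M] [Module A M] (ι : Type u) (N : ι → Type u) [∀ i, AddCommGroup (N i)]
    [∀ i, Module A (N i)] (v : ∀ i, M →ₗ[A] N i),
    Detects v → ∀ z : M ⊗[A] C, (∀ i, (v i).rTensor C z = 0) → z = 0

theorem sepBC_of_flat_finitePresentation (A C : Type u) [CommRing A] [CommRing C] [Algebra A C]
    [Module.Flat A C] [Algebra.FinitePresentation A C] : SepBC A C :=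
  fun _ _ _ _ _ _ _ v hv z hz => eq_zero_of_flat_finitePresentation v hv z hz

/-- A separating family pulls back to a separating family as soon as its base change to enough affines is
jointly injective. -/
theorem separating_pullback {X X' : Scheme.{u}} (F : X.Modules) (hF : Coh.IsQCoh F) {ι : Type u}
    (G : ι → X.Modules) (hG : ∀ i, Coh.IsQCoh (G i)) (u : ∀ i, F ⟶ G i) (g : X' ⟶ X)
    (hcore : ∀ (V : X'.Opens) (x : X'), x ∈ V → ∃ (U : X.Opens) (W : X'.Opens) (hWU : W ≤ g ⁻¹ᵁ U),
      IsAffineOpen U ∧ IsAffineOpen W ∧ x ∈ W ∧ W ≤ V ∧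
        (letI := (g.appLE U W hWU).hom.toAlgebra; SepBC Γ(X, U) Γ(X', W)))
    (h : ∀ (V : X.Opens) (t : Γ(F, V)), (∀ i, (u i).app V t = 0) → t = 0)
    (V : X'.Opens) (t : Γ((Scheme.Modules.pullback g).obj F, V))
    (ht : ∀ i, ((Scheme.Modules.pullback g).map (u i)).app V t = 0) : t = 0 := by
  refine QCoh.eq_zero_of_locally V t fun x hx => ?_
  obtain ⟨U, W, hWU, hU, hW, hxW, hWV, hsep⟩ := hcore V x hx
  refine ⟨W, homOfLE hWV, hxW, ?_⟩
  let P := Scheme.Modules.pullback g
  letI : Algebra Γ(X, U) Γ(X', W) := (g.appLE U W hWU).hom.toAlgebra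
  letI : ∀ M : X'.Modules, Module Γ(X, U) Γ(M, W) := fun M => Module.compHom _ (g.appLE U W hWU).hom
  haveI : ∀ M : X'.Modules, IsScalarTower Γ(X, U) Γ(X', W) Γ(M, W) := fun M =>
    .of_algebraMap_smul fun _ _ => rfl
  let l : ∀ M : X.Modules, Γ(M, U) →ₗ[Γ(X, U)] Γ(P.obj M, W) := fun M =>
    { toFun := QCoh.pullSec g M hWU
      map_add' := QCoh.pullSec_add g M hWU
      map_smul' := fun r m => QCoh.pullSec_smul g M hWU r m }
  have hl : ∀ (M : X.Modules), Coh.IsQCoh M → IsBaseChange Γ(X', W) (l M) := fun M hM =>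
    QCoh.isBaseChange_pullback hU g hW hM hWU (fun _ => rfl) (l M) fun _ => rfl
  let v : ∀ i, Γ(F, U) →ₗ[Γ(X, U)] Γ(G i, U) := fun i => QCoh.appLin (u i) U
  have hv : Detects v := by
    intro c y hy
    letI := QCoh.basicModule (U := U) c F
    refine (fun h0 : F.presheaf.map (homOfLE (X.basicOpen_le c)).op y = 0 => ?_) (h _ _ fun i => ?_)
    · haveI := QCoh.isLocalizedModule_basicRes c hF hU
      obtain ⟨⟨_, n, rfl⟩, hn⟩ := (IsLocalizedModule.eq_zero_iff (Submonoid.powers c) (QCoh.basicRes c F)).1 h0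
      exact ⟨n, hn⟩
    · obtain ⟨m, hm⟩ := hy i
      letI := QCoh.basicModule (U := U) c (G i)
      haveI := QCoh.isLocalizedModule_basicRes c (hG i) hU
      have h1 : QCoh.basicRes c (G i) ((u i).app U y) = 0 :=
        (IsLocalizedModule.eq_zero_iff (Submonoid.powers c) (QCoh.basicRes c (G i))).2 ⟨⟨c ^ m, m, rfl⟩, hm⟩
      exact (QCoh.map_app_comm (u i) (homOfLE (X.basicOpen_le c)) y).trans h1
  set t' := (P.obj F).presheaf.map (homOfLE hWV).op t
  have key : ((hl F hF).equiv.symm t') = 0 := by
    apply (TensorProduct.comm Γ(X, U) Γ(X', W) Γ(F, U)).injective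
    rw [map_zero]
    refine hsep _ ι _ v hv _ fun i => ?_
    have hnat : ∀ w, (hl (G i) (hG i)).equiv ((TensorProduct.comm Γ(X, U) Γ(G i, U) Γ(X', W))
        ((v i).rTensor Γ(X', W) (TensorProduct.comm Γ(X, U) Γ(X', W) Γ(F, U) w))) =
        (P.map (u i)).app W ((hl F hF).equiv w) := by
      intro w
      induction w using TensorProduct.induction_on with
      | zero => simp
      | add a b ha hb => simp only [map_add, ha, hb]
      | tmul c m =>
        simp only [TensorProduct.comm_tmul, LinearMap.rTensor_tmul, IsBaseChange.equiv_tmul]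
        rw [Scheme.Modules.Hom.app_smul]
        exact congrArg (c • ·) (ZClosLib.pullSec_natural g (u i) hWU m).symm
    have h2 := hnat ((hl F hF).equiv.symm t')
    rw [LinearEquiv.apply_symm_apply] at h2
    have h3 : (P.map (u i)).app W t' = 0 := by
      refine (QCoh.map_app_comm (P.map (u i)) (homOfLE hWV) t).trans ?_
      exact (congrArg _ (ht i)).trans (map_zero _)
    rw [h3] at h2
    have h4 := (hl (G i) (hG i)).equiv.injective (h2.trans (map_zero _).symm)
    exact (TensorProduct.comm Γ(X, U) Γ(G i, U) Γ(X', W)).injective (h4.trans (map_zero _).symm)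
  have h5 := congrArg (hl F hF).equiv key
  rwa [LinearEquiv.apply_symm_apply, map_zero] at h5

end Groth.Agent.SepFlat5
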