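import Groth.Agent.SepFlat5.Free
import Mathlib.RingTheory.Localization.BaseChange
import Mathlib.RingTheory.FinitePresentation
import Mathlib.RingTheory.Flat.Localization

/-!
# Separating families and base change of algebras over a field

Over a field `k` a detecting family of `A`-linear maps stays separating after base change to any principal
localisation of `A ⊗[k] D`, for an arbitrary `k`-algebra `D`.
-/

set_option backward.isDefEq.respectTransparency false
set_option linter.style.haveILetI false

universe u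

open scoped TensorProduct
open TensorProduct

namespace Groth.Agent.SepFlat5

section Away

variable {A B : Type u} [CommRing A] [CommRing B] [Algebra A B] (g : B)
  (C : Type u) [CommRing C] [Algebra A C] [Algebra B C] [IsScalarTower A B C] [IsLocalization.Away g C]

/-- The localisation map `B ⊗ N → C ⊗ N`. -/
noncomputable abbrev awayMap (N : Type u) [AddCommGroup N] [Module A N] : B ⊗[A] N →ₗ[B] C ⊗[A] N :=
  AlgebraTensorModule.map (Algebra.linearMap B C) (LinearMap.id : N →ₗ[A] N)

omit [IsLocalization.Away g C] in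
theorem awayMap_natural {N N' : Type u} [AddCommGroup N] [Module A N] [AddCommGroup N'] [Module A N']
    (v : N →ₗ[A] N') (z : B ⊗[A] N) : awayMap C N' (v.lTensor B z) = v.lTensor C (awayMap C N z) := by
  induction z using TensorProduct.induction_on with
  | zero => simp
  | tmul b n => rfl
  | add a c ha hc => simp only [map_add, ha, hc]

theorem isLocalizedModule_awayMap (N : Type u) [AddCommGroup N] [Module A N] :
    IsLocalizedModule (Submonoid.powers g) (awayMap (A := A) (B := B) C N) :=
  (isLocalizedModule_iff_isBaseChange (Submonoid.powers g) C _).2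
    (IsBaseChange.of_equiv (AlgebraTensorModule.cancelBaseChange A B C C N) fun x => by
      induction x using TensorProduct.induction_on with
      | zero => simp
      | tmul b n => simp [Algebra.smul_def]
      | add a c ha hc => simp only [TensorProduct.tmul_add, map_add, ha, hc])

include g in
theorem sepBC_away
    (hB : ∀ (M : Type u) [AddCommGroup M] [Module A M] (ι : Type u) (N : ι → Type u) [∀ i, AddCommGroup (N i)]
      [∀ i, Module A (N i)] (v : ∀ i, M →ₗ[A] N i), Detects v → ∀ z : B ⊗[A] M,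
      (∀ i, ∃ m : ℕ, g ^ m • (v i).lTensor B z = 0) → ∃ m : ℕ, g ^ m • z = 0) : SepBC A C := by
  intro M _ _ ι N _ _ v hv z hz
  apply (TensorProduct.comm A M C).injective
  rw [map_zero]
  set w := TensorProduct.comm A M C z
  have hw : ∀ i, (v i).lTensor C w = 0 := by
    intro i
    have h : ∀ y, (v i).lTensor C (TensorProduct.comm A M C y) = TensorProduct.comm A (N i) C ((v i).rTensor C y) := by
      intro y
      induction y using TensorProduct.induction_on with
      | zero => simp
      | tmul m c => rfl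
      | add a c ha hc => simp only [map_add, ha, hc]
    rw [show w = TensorProduct.comm A M C z from rfl, h, hz i, map_zero]
  haveI := isLocalizedModule_awayMap (A := A) (B := B) g C M
  obtain ⟨⟨b, s⟩, hb⟩ := IsLocalizedModule.surj (Submonoid.powers g) (awayMap (A := A) (B := B) C M) w
  obtain ⟨m, hm⟩ := hB M ι N v hv b fun i => by
    haveI := isLocalizedModule_awayMap (A := A) (B := B) g C (N i)
    have h0 : awayMap C (N i) ((v i).lTensor B b) = 0 := by
      rw [awayMap_natural, ← hb, Submonoid.smul_def]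
      have h1 : ∀ (c : B) (y : C ⊗[A] M), (v i).lTensor C (c • y) = c • (v i).lTensor C y := by
        intro c y
        induction y using TensorProduct.induction_on with
        | zero => simp
        | tmul d n => rfl
        | add a d ha hd => simp only [smul_add, map_add, ha, hd]
      rw [h1, hw, smul_zero]
    obtain ⟨⟨_, m, rfl⟩, hm⟩ := (IsLocalizedModule.eq_zero_iff (Submonoid.powers g) (awayMap (A := A) (B := B) C (N i))).1 h0
    exact ⟨m, hm⟩
  apply IsLocalizedModule.smul_injective (awayMap (A := A) (B := B) C M) s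
  apply IsLocalizedModule.smul_injective (awayMap (A := A) (B := B) C M) (⟨g ^ m, m, rfl⟩ : Submonoid.powers g)
  simp only [hb, smul_zero]
  rw [Submonoid.smul_def, ← map_smul, hm, map_zero]

end Away

section Field

variable {k A D : Type u} [Field k] [CommRing A] [Algebra k A] [CommRing D] [Algebra k D]

/-- The inclusion `A ⊗ D₀ → A ⊗ D`. -/
noncomputable abbrev inc (D₀ : Subalgebra k D) : A ⊗[k] D₀ →ₐ[A] A ⊗[k] D :=
  Algebra.TensorProduct.map (AlgHom.id A A) D₀.val

/-- `A ⊗ D₀ ⊗ N → A ⊗ D ⊗ N`. -/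
noncomputable abbrev incN (D₀ : Subalgebra k D) (N : Type u) [AddCommGroup N] [Module A N] :
    (A ⊗[k] D₀) ⊗[A] N →ₗ[A] (A ⊗[k] D) ⊗[A] N :=
  (inc D₀).toLinearMap.rTensor N

theorem incN_smul (D₀ : Subalgebra k D) (N : Type u) [AddCommGroup N] [Module A N] (c : A ⊗[k] D₀)
    (y : (A ⊗[k] D₀) ⊗[A] N) : incN D₀ N (c • y) = inc D₀ c • incN D₀ N y := by
  induction y using TensorProduct.induction_on with
  | zero => simp
  | tmul d n =>
    show inc D₀ (c * d) ⊗ₜ n = _
    rw [map_mul]
    rfl
  | add a d ha hd => simp only [smul_add, map_add, ha, hd]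

theorem incN_natural (D₀ : Subalgebra k D) {N N' : Type u} [AddCommGroup N] [Module A N] [AddCommGroup N']
    [Module A N'] (v : N →ₗ[A] N') (y : (A ⊗[k] D₀) ⊗[A] N) :
    incN D₀ N' (v.lTensor _ y) = v.lTensor _ (incN D₀ N y) := by
  induction y using TensorProduct.induction_on with
  | zero => simp
  | tmul d n => rfl
  | add a d ha hd => simp only [map_add, ha, hd]

theorem incN_injective (D₀ : Subalgebra k D) (N : Type u) [AddCommGroup N] [Module A N] :
    Function.Injective (incN (A := A) D₀ N) := by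
  obtain ⟨r, hr⟩ := D₀.val.toLinearMap.exists_leftInverse_of_injective
    (LinearMap.ker_eq_bot.2 Subtype.val_injective)
  refine Function.LeftInverse.injective (g := (AlgebraTensorModule.map (LinearMap.id : A →ₗ[A] A) r).rTensor N) ?_
  intro y
  induction y using TensorProduct.induction_on with
  | zero => simp
  | add a d ha hd => simp only [map_add, ha, hd]
  | tmul d n =>
    simp only [LinearMap.rTensor_tmul]
    congr 1
    induction d using TensorProduct.induction_on with
    | zero => simp
    | add a d ha hd => simp only [map_add, ha, hd]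
    | tmul a d =>
      have := LinearMap.congr_fun hr d
      simp only [LinearMap.coe_comp, Function.comp_apply, LinearMap.id_coe, id_eq] at this
      exact congrArg (a ⊗ₜ[k] ·) this

theorem exists_fg_inc (x : A ⊗[k] D) : ∃ s : Finset D, ∀ D₀ : Subalgebra k D, ↑s ⊆ (D₀ : Set D) →
    x ∈ Set.range (inc (A := A) D₀) := by
  classical
  induction x using TensorProduct.induction_on with
  | zero => exact ⟨∅, fun D₀ _ => ⟨0, map_zero _⟩⟩
  | tmul a d => exact ⟨{d}, fun D₀ h => ⟨a ⊗ₜ ⟨d, h (by simp)⟩, rfl⟩⟩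
  | add x y hx hy =>
    obtain ⟨s, hs⟩ := hx
    obtain ⟨t, ht⟩ := hy
    refine ⟨s ∪ t, fun D₀ h => ?_⟩
    rw [Finset.coe_union, Set.union_subset_iff] at h
    obtain ⟨a, ha⟩ := hs D₀ h.1
    obtain ⟨b, hb⟩ := ht D₀ h.2
    exact ⟨a + b, by rw [map_add, ha, hb]⟩

theorem exists_fg_incN {N : Type u} [AddCommGroup N] [Module A N] (x : (A ⊗[k] D) ⊗[A] N) :
    ∃ s : Finset D, ∀ D₀ : Subalgebra k D, ↑s ⊆ (D₀ : Set D) → x ∈ Set.range (incN (A := A) D₀ N) := by
  classical
  induction x using TensorProduct.induction_on with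
  | zero => exact ⟨∅, fun D₀ _ => ⟨0, map_zero _⟩⟩
  | tmul c n =>
    obtain ⟨s, hs⟩ := exists_fg_inc c
    refine ⟨s, fun D₀ h => ?_⟩
    obtain ⟨a, ha⟩ := hs D₀ h
    exact ⟨a ⊗ₜ n, by rw [LinearMap.rTensor_tmul, ← ha]; rfl⟩
  | add x y hx hy =>
    obtain ⟨s, hs⟩ := hx
    obtain ⟨t, ht⟩ := hy
    refine ⟨s ∪ t, fun D₀ h => ?_⟩
    rw [Finset.coe_union, Set.union_subset_iff] at h
    obtain ⟨a, ha⟩ := hs D₀ h.1
    obtain ⟨b, hb⟩ := ht D₀ h.2
    exact ⟨a + b, by rw [map_add, ha, hb]⟩

/-- Powers of an element of `A ⊗[k] D` detect through a separating family. -/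
theorem exists_pow_smul_field {M : Type u} [AddCommGroup M] [Module A M]
    {ι : Type u} {N : ι → Type u} [∀ i, AddCommGroup (N i)] [∀ i, Module A (N i)] (v : ∀ i, M →ₗ[A] N i)
    (hv : Detects v) (g : A ⊗[k] D) (z : (A ⊗[k] D) ⊗[A] M)
    (hz : ∀ i, ∃ m : ℕ, g ^ m • (v i).lTensor (A ⊗[k] D) z = 0) : ∃ m : ℕ, g ^ m • z = 0 := by
  classical
  obtain ⟨s, hs⟩ := exists_fg_inc g
  obtain ⟨t, ht⟩ := exists_fg_incN z
  let D₀ := Algebra.adjoin k (↑(s ∪ t) : Set D)
  have hsub : ↑(s ∪ t) ⊆ (D₀ : Set D) := Algebra.subset_adjoin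
  rw [Finset.coe_union, Set.union_subset_iff] at hsub
  obtain ⟨g₀, hg⟩ := hs D₀ hsub.1
  obtain ⟨z₀, hz₀⟩ := ht D₀ hsub.2
  haveI : Algebra.FiniteType k D₀ :=
    (Subalgebra.fg_iff_finiteType D₀).1 (Subalgebra.fg_adjoin_finset (s ∪ t))
  haveI : Algebra.FinitePresentation k D₀ := Algebra.FinitePresentation.of_finiteType.1 ‹_›
  let B₀ := A ⊗[k] D₀
  let C₀ := Localization.Away g₀
  haveI : Module.Flat B₀ C₀ := IsLocalization.flat C₀ (Submonoid.powers g₀)
  haveI : Module.Flat A C₀ := Module.Flat.trans A B₀ C₀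
  haveI : Algebra.FinitePresentation B₀ C₀ := IsLocalization.Away.finitePresentation g₀
  haveI : Algebra.FinitePresentation A C₀ := Algebra.FinitePresentation.trans A B₀ C₀
  have h0 : awayMap C₀ M z₀ = 0 := by
    apply (TensorProduct.comm A C₀ M).injective
    rw [map_zero]
    refine eq_zero_of_flat_finitePresentation v hv _ fun i => ?_
    obtain ⟨m, hm⟩ := hz i
    have h1 : g₀ ^ m • (v i).lTensor B₀ z₀ = 0 := by
      apply incN_injective D₀ (N i)
      rw [incN_smul, incN_natural, map_zero, map_pow, hg, hz₀, hm]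
    haveI := isLocalizedModule_awayMap (A := A) (B := B₀) g₀ C₀ (N i)
    have h2 : awayMap C₀ (N i) ((v i).lTensor B₀ z₀) = 0 :=
      (IsLocalizedModule.eq_zero_iff (Submonoid.powers g₀) (awayMap (B := B₀) C₀ (N i))).2
        ⟨⟨g₀ ^ m, m, rfl⟩, h1⟩
    rw [awayMap_natural] at h2
    have h3 : ∀ y : C₀ ⊗[A] M, (v i).rTensor C₀ (TensorProduct.comm A C₀ M y) =
        TensorProduct.comm A C₀ (N i) ((v i).lTensor C₀ y) := by
      intro y
      induction y using TensorProduct.induction_on with
      | zero => simp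
      | tmul c n => rfl
      | add a d ha hd => simp only [map_add, ha, hd]
    rw [h3, h2, map_zero]
  haveI := isLocalizedModule_awayMap (A := A) (B := B₀) g₀ C₀ M
  obtain ⟨⟨_, m, rfl⟩, hm⟩ := (IsLocalizedModule.eq_zero_iff (Submonoid.powers g₀) (awayMap (B := B₀) C₀ M)).1 h0
  refine ⟨m, ?_⟩
  have hm' := congrArg (incN D₀ M) hm
  rwa [Submonoid.smul_def, incN_smul, map_pow, hg, hz₀, map_zero] at hm'

theorem sepBC_field (g : A ⊗[k] D) (C : Type u) [CommRing C] [Algebra A C] [Algebra (A ⊗[k] D) C]
    [IsScalarTower A (A ⊗[k] D) C] [IsLocalization.Away g C] : SepBC A C :=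
  sepBC_away g C fun _ _ _ _ _ _ _ v hv z hz => exists_pow_smul_field v hv g z hz

end Field

end Groth.Agent.SepFlat5
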