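import Groth.Agent.SepFlat5.Modules
import Mathlib.LinearAlgebra.TensorProduct.Basis

/-!
# Separating families and free base change
-/

universe u

open scoped TensorProduct

namespace Groth.Agent.SepFlat5

theorem Detects.eq_zero {A : Type u} [CommRing A] {M : Type u} [AddCommGroup M] [Module A M] {ι : Type u}
    {N : ι → Type u} [∀ i, AddCommGroup (N i)] [∀ i, Module A (N i)] {v : ∀ i, M →ₗ[A] N i}
    (hv : Detects v) (x : M) (hx : ∀ i, v i x = 0) : x = 0 := by
  obtain ⟨m, hm⟩ := hv 1 x fun i => ⟨0, by simp [hx i]⟩
  simpa using hm

theorem sepBC_of_free (A C : Type u) [CommRing A] [CommRing C] [Algebra A C] [Module.Free A C] : SepBC A C := by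
  intro M _ _ ι N _ _ v hv z hz
  classical
  let b := Module.Free.chooseBasis A C
  have key : ∀ i w j, TensorProduct.equivFinsuppOfBasisRight b ((v i).rTensor C w) j =
      v i (TensorProduct.equivFinsuppOfBasisRight b w j) := by
    intro i w j
    induction w using TensorProduct.induction_on with
    | zero => simp
    | tmul m c => simp [TensorProduct.equivFinsuppOfBasisRight_apply_tmul_apply]
    | add a c ha hc => simp only [map_add, Finsupp.add_apply, ha, hc]
  apply (TensorProduct.equivFinsuppOfBasisRight (M := M) b).injective
  ext j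
  rw [map_zero, Finsupp.zero_apply]
  exact hv.eq_zero _ fun i => by rw [← key, hz i]; simp

end Groth.Agent.SepFlat5
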