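import Groth.Agent.SchDenseLib.Devissage
import Mathlib.RingTheory.Extension.Presentation.Core
import Mathlib.RingTheory.Flat.Stability
import Mathlib.RingTheory.FinitePresentation

/-!
# Separating families of linear maps and flat base change of finite presentation

`Detects v` says that a family of linear maps `v i : N →ₗ[A] N_i` is jointly injective after inverting any
element of `A`.  Such a family stays jointly injective after tensoring with a flat `A`-algebra of finite
presentation: Noetherian induction on an ideal killing the source, with generic freeness.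
-/

universe u

open TensorProduct

namespace Groth.Agent.SepFlat5

open SchDenseLib.Devissage

variable {A₀ A : Type u} [CommRing A₀] [CommRing A] [Algebra A₀ A]

/-- Jointly injective on every principal open. -/
def Detects {N : Type u} [AddCommGroup N] [Module A N] {ι : Type u} {N' : ι → Type u}
    [∀ i, AddCommGroup (N' i)] [∀ i, Module A (N' i)] (v : ∀ i, N →ₗ[A] N' i) : Prop :=
  ∀ (c : A) (x : N), (∀ i, ∃ m : ℕ, c ^ m • v i x = 0) → ∃ m : ℕ, c ^ m • x = 0

theorem Detects.comp {N N₁ : Type u} [AddCommGroup N] [Module A N] [AddCommGroup N₁] [Module A N₁]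
    {ι : Type u} {N' : ι → Type u} [∀ i, AddCommGroup (N' i)] [∀ i, Module A (N' i)] {v : ∀ i, N →ₗ[A] N' i}
    (h : Detects v) (j : N₁ →ₗ[A] N) (hj : Function.Injective j) : Detects fun i => v i ∘ₗ j := by
  intro c x hx
  obtain ⟨m, hm⟩ := h c (j x) hx
  exact ⟨m, hj (by rw [map_smul, hm, map_zero])⟩

/-- Base change of a map along `A₀ → B₀`. -/
noncomputable abbrev tmap (B₀ : Type u) [CommRing B₀] [Algebra A₀ B₀] {N N' : Type u} [AddCommGroup N] [Module A N]
    [Module A₀ N] [IsScalarTower A₀ A N] [AddCommGroup N'] [Module A N'] [Module A₀ N'] [IsScalarTower A₀ A N']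
    (p : N →ₗ[A] N') : N ⊗[A₀] B₀ →ₗ[A] N' ⊗[A₀] B₀ :=
  AlgebraTensorModule.map p (LinearMap.id : B₀ →ₗ[A₀] B₀)

variable (A) in
/-- The statement proved by Noetherian induction on the ideal `J`. -/
def Claim (B₀ : Type u) [CommRing B₀] [Algebra A₀ B₀] (J : Ideal A₀) : Prop :=
  ∀ (N : Type u) [AddCommGroup N] [Module A N] [Module A₀ N] [IsScalarTower A₀ A N]
    (ι : Type u) (N' : ι → Type u) [∀ i, AddCommGroup (N' i)] [∀ i, Module A (N' i)] [∀ i, Module A₀ (N' i)]
    [∀ i, IsScalarTower A₀ A (N' i)] (v : ∀ i, N →ₗ[A] N' i),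
    Detects v → (∀ j ∈ J, ∀ m : N, j • m = 0) →
    ∀ b : N ⊗[A₀] B₀, (∀ i, tmap B₀ (v i) b = 0) → b = 0

variable {B₀ : Type u} [CommRing B₀] [Algebra A₀ B₀]

theorem tmap_comp {N N₁ N₂ : Type u} [AddCommGroup N] [Module A N] [Module A₀ N] [IsScalarTower A₀ A N]
    [AddCommGroup N₁] [Module A N₁] [Module A₀ N₁] [IsScalarTower A₀ A N₁]
    [AddCommGroup N₂] [Module A N₂] [Module A₀ N₂] [IsScalarTower A₀ A N₂]
    (p : N →ₗ[A] N₁) (q : N₁ →ₗ[A] N₂) (b : N ⊗[A₀] B₀) : tmap B₀ (q ∘ₗ p) b = tmap B₀ q (tmap B₀ p b) := by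
  induction b using TensorProduct.induction_on with
  | zero => simp
  | tmul x y => rfl
  | add x y hx hy => simp only [map_add, hx, hy]

section steps

variable {N : Type u} [AddCommGroup N] [Module A N] [Module A₀ N] [IsScalarTower A₀ A N]
  {ι : Type u} {N' : ι → Type u} [∀ i, AddCommGroup (N' i)] [∀ i, Module A (N' i)] [∀ i, Module A₀ (N' i)]
  [∀ i, IsScalarTower A₀ A (N' i)] {v : ∀ i, N →ₗ[A] N' i}

theorem eq_zero_of_smul_eq_zero (hF : FlatOver A₀ A B₀) {J : Ideal A₀} (a : A₀)
    (hJ : Claim A B₀ (J ⊔ Ideal.span {a})) (hd : Detects v) (hN : ∀ j ∈ J, ∀ m : N, j • m = 0)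
    (b : N ⊗[A₀] B₀) (hb : ∀ i, tmap B₀ (v i) b = 0) (hab : algebraMap A₀ A a • b = 0) : b = 0 := by
  let μ := LinearMap.lsmul A N (algebraMap A₀ A a)
  have hex : Function.Exact (LinearMap.ker μ).subtype μ.rangeRestrict := by
    rw [LinearMap.exact_iff, LinearMap.ker_rangeRestrict, Submodule.range_subtype]
  have h0 : tmap B₀ μ.rangeRestrict b = 0 := by
    apply hF N _ (LinearMap.range μ).subtype Subtype.val_injective
    rw [map_zero, ← tmap_comp,
      show (LinearMap.range μ).subtype ∘ₗ μ.rangeRestrict = μ from LinearMap.ext fun _ => rfl,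
      lsmul_map_eq, hab]
  obtain ⟨b', hb'⟩ := (rTensor_exact B₀ (f := (LinearMap.ker μ).subtype.restrictScalars A₀)
    (g := μ.rangeRestrict.restrictScalars A₀) hex μ.surjective_rangeRestrict b).1 h0
  have hb'' : tmap B₀ (LinearMap.ker μ).subtype b' = b := hb'
  have hz : b' = 0 := by
    refine hJ (LinearMap.ker μ) ι N' _ (hd.comp (LinearMap.ker μ).subtype Subtype.val_injective) (fun j hj m => ?_) b' fun i => ?_
    · obtain ⟨x, hx, y, hy, rfl⟩ := Submodule.mem_sup.1 hj
      obtain ⟨c, rfl⟩ := Ideal.mem_span_singleton'.1 hy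
      apply Subtype.ext
      show (x + c * a) • (m : N) = 0
      rw [add_smul, hN x hx, mul_smul, algebraMap_smul A a (m : N) |>.symm]
      rw [show algebraMap A₀ A a • (m : N) = 0 from m.2, smul_zero, add_zero]
    · rw [tmap_comp, hb'', hb]
  rw [← hb'', hz, map_zero]

theorem step_nonprime (hF : FlatOver A₀ A B₀) {J : Ideal A₀} (a c : A₀) (hac : a * c ∈ J)
    (ha : Claim A B₀ (J ⊔ Ideal.span {a})) (hc : Claim A B₀ (J ⊔ Ideal.span {c})) :
    Claim A B₀ J := by
  intro N _ _ _ _ ι N' _ _ _ _ v hd hN b hb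
  refine eq_zero_of_smul_eq_zero hF a ha hd hN b hb ?_
  let μ := LinearMap.lsmul A N (algebraMap A₀ A a)
  have hμ : tmap B₀ (LinearMap.range μ).subtype (tmap B₀ μ.rangeRestrict b) = algebraMap A₀ A a • b := by
    rw [← tmap_comp,
      show (LinearMap.range μ).subtype ∘ₗ μ.rangeRestrict = μ from LinearMap.ext fun _ => rfl, lsmul_map_eq]
  have h0 : tmap B₀ μ.rangeRestrict b = 0 := by
    refine hc (LinearMap.range μ) ι N' _ (hd.comp (LinearMap.range μ).subtype (LinearMap.range μ).injective_subtype) ?_ _ fun i => ?_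
    · rintro j hj ⟨_, m, rfl⟩
      apply Subtype.ext
      obtain ⟨x, hx, y, hy, rfl⟩ := Submodule.mem_sup.1 hj
      obtain ⟨d, rfl⟩ := Ideal.mem_span_singleton'.1 hy
      show (x + d * c) • (algebraMap A₀ A a • m) = 0
      rw [algebraMap_smul, add_smul, hN x hx, ← mul_smul, mul_assoc, mul_comm c a, mul_smul,
        hN _ hac, smul_zero, zero_add]
    · rw [tmap_comp, hμ, map_smul, hb, smul_zero]
  rw [← hμ, h0, map_zero]

end steps

/-- Coordinates along a generic basis, after multiplying by a power of `f`. -/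
theorem exists_coords [IsNoetherianRing A₀] [Algebra.FiniteType A₀ B₀] (J : Ideal A₀) [J.IsPrime] :
    ∃ f : A₀, f ∉ J ∧ ∃ (κ : Type u) (e : κ → B₀),
      ∀ (N : Type u) [AddCommGroup N] [Module A N] [Module A₀ N] [IsScalarTower A₀ A N],
        (∀ j ∈ J, ∀ m : N, j • m = 0) →
        (∀ b : N ⊗[A₀] B₀, ∃ (K : ℕ) (T : Finset κ) (m : κ → N),
          algebraMap A₀ A (f ^ K) • b = ∑ i ∈ T, m i ⊗ₜ[A₀] e i) ∧
        ∀ (T : Finset κ) (m : κ → N), ∑ i ∈ T, m i ⊗ₜ[A₀] e i = 0 →
          ∀ i ∈ T, ∃ k : ℕ, algebraMap A₀ A f ^ k • m i = 0 := by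
  classical
  obtain ⟨f, hf, κ, e, hind, hgen⟩ := exists_generic_basis (B₀ := B₀) J
  refine ⟨f, hf, κ, e, fun N _ _ _ _ hN => ?_⟩
  let P : Submonoid A := Submonoid.powers (algebraMap A₀ A f)
  let pw : ℕ → P := fun k => ⟨algebraMap A₀ A f ^ k, k, rfl⟩
  let Rel : B₀ → ℕ → (κ →₀ A₀) → Prop := fun y k c =>
    f ^ k • y - Finsupp.linearCombination A₀ e c ∈ J • (⊤ : Submodule A₀ B₀)
  choose kk cc hcc using hgen
  have indep : ∀ y k c, Rel y k c → ∀ (i : κ) (m : N),
      LocalizedModule.mk (cc y i • m) (pw (kk y)) = LocalizedModule.mk (c i • m) (pw k) := by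
    intro y k c hr i m
    rw [LocalizedModule.mk_eq]
    refine ⟨1, ?_⟩
    have hmem : f ^ k • cc y i - f ^ kk y • c i ∈ J := by
      have h := hind (f ^ k • cc y - f ^ kk y • c) ?_ i
      · simpa using h
      rw [map_sub, map_smul, map_smul]
      have h1 := Submodule.smul_mem _ (f ^ kk y) hr
      have h2 := Submodule.smul_mem _ (f ^ k) (hcc y)
      convert sub_mem h1 h2 using 1
      rw [smul_sub, smul_sub, smul_smul, smul_smul, mul_comm]
      abel
    rw [one_smul, one_smul]
    show (algebraMap A₀ A f ^ k) • (cc y i • m) = (algebraMap A₀ A f ^ kk y) • (c i • m)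
    rw [← map_pow, ← map_pow, algebraMap_smul, algebraMap_smul, ← sub_eq_zero, smul_smul, smul_smul,
      ← sub_smul]
    exact hN _ hmem m
  have hadd : ∀ y y', Rel (y + y') (kk y + kk y') (f ^ kk y' • cc y + f ^ kk y • cc y') := by
    intro y y'
    have h1 := Submodule.smul_mem _ (f ^ kk y') (hcc y)
    have h2 := Submodule.smul_mem _ (f ^ kk y) (hcc y')
    show _ ∈ _
    convert add_mem h1 h2 using 1
    rw [map_add, map_smul, map_smul, smul_sub, smul_sub, smul_smul, smul_smul, smul_add, pow_add,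
      mul_comm (f ^ kk y') (f ^ kk y)]
    abel
  have hsmul : ∀ (r : A₀) y, Rel (r • y) (kk y) (r • cc y) := by
    intro r y
    show _ ∈ _
    rw [map_smul, smul_comm, ← smul_sub]
    exact Submodule.smul_mem _ _ (hcc y)
  let ψ : κ → N →ₗ[A] B₀ →ₗ[A₀] LocalizedModule P N := fun i =>
    { toFun := fun m =>
        { toFun := fun y => LocalizedModule.mk (cc y i • m) (pw (kk y))
          map_add' := fun y y' => by
            rw [indep _ _ _ (hadd y y') i m, LocalizedModule.mk_add_mk]
            congr 1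
            · show ((f ^ kk y' • cc y + f ^ kk y • cc y') i) • m =
                algebraMap A₀ A f ^ kk y' • (cc y i • m) + algebraMap A₀ A f ^ kk y • (cc y' i • m)
              rw [← map_pow, ← map_pow, algebraMap_smul, algebraMap_smul]
              simp [add_smul, mul_smul]
            · exact Subtype.ext (pow_add _ _ _)
          map_smul' := fun r y => by
            rw [indep _ _ _ (hsmul r y) i m]
            show LocalizedModule.mk ((r • cc y) i • m) _ = r • LocalizedModule.mk (cc y i • m) _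
            rw [← algebraMap_smul A r (LocalizedModule.mk (cc y i • m) (pw (kk y))),
              LocalizedModule.smul'_mk, algebraMap_smul]
            simp [mul_smul] }
      map_add' := fun m m' => LinearMap.ext fun y => by
        show LocalizedModule.mk (cc y i • (m + m')) (pw (kk y)) =
          LocalizedModule.mk (cc y i • m) (pw (kk y)) + LocalizedModule.mk (cc y i • m') (pw (kk y))
        rw [smul_add, mk_add_same]
      map_smul' := fun a m => LinearMap.ext fun y => by
        show LocalizedModule.mk (cc y i • (a • m)) (pw (kk y)) =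
          a • LocalizedModule.mk (cc y i • m) (pw (kk y))
        rw [LocalizedModule.smul'_mk, smul_comm] }
  refine ⟨fun b => ?_, fun T m h0 i hi => ?_⟩
  · obtain ⟨s, hs⟩ := TensorProduct.exists_finset b
    let K := s.sup fun p => kk p.2
    let ct : (N × B₀) → (κ →₀ A₀) := fun p => f ^ (K - kk p.2) • cc p.2
    have hct : ∀ p ∈ s, Rel p.2 K (ct p) := by
      intro p hp
      show _ ∈ _
      have hle : kk p.2 ≤ K := Finset.le_sup (f := fun p => kk p.2) hp
      have := Submodule.smul_mem _ (f ^ (K - kk p.2)) (hcc p.2)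
      rwa [smul_sub, smul_smul, ← pow_add, Nat.sub_add_cancel hle, ← map_smul] at this
    refine ⟨K, s.biUnion fun p => (ct p).support, fun i => ∑ p ∈ s, ct p i • p.1, ?_⟩
    rw [hs, Finset.smul_sum]
    simp only [TensorProduct.sum_tmul]
    rw [Finset.sum_comm]
    refine Finset.sum_congr rfl fun p hp => ?_
    have h0 := tmul_eq_zero_of_mem_smul (B₀ := B₀) hN p.1 (hct p hp)
    rw [TensorProduct.tmul_sub, sub_eq_zero] at h0
    rw [TensorProduct.smul_tmul', algebraMap_smul, TensorProduct.smul_tmul, h0,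
      Finsupp.linearCombination_apply,
      Finsupp.sum_of_support_subset _ (Finset.subset_biUnion_of_mem (fun p => (ct p).support) hp) _
        (fun i _ => by simp), TensorProduct.tmul_sum]
    exact Finset.sum_congr rfl fun i _ => (TensorProduct.smul_tmul _ _ _).symm
  · have hval : ∀ l, AlgebraTensorModule.lift (ψ i) (m l ⊗ₜ[A₀] e l) =
        LocalizedModule.mk ((Finsupp.single l 1 : κ →₀ A₀) i • m l) (pw 0) := fun l => by
      refine indep (e l) 0 (Finsupp.single l 1) ?_ i (m l)
      show _ ∈ _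
      rw [pow_zero, one_smul, Finsupp.linearCombination_single, one_smul, sub_self]
      exact zero_mem _
    have h1 := congrArg (AlgebraTensorModule.lift (ψ i)) h0
    rw [map_sum, map_zero, Finset.sum_eq_single i (fun l _ hl => by
        rw [hval, Finsupp.single_eq_of_ne hl.symm, zero_smul, LocalizedModule.zero_mk])
      (fun h => absurd hi h), hval, Finsupp.single_eq_same, one_smul, mk_eq_zero] at h1
    obtain ⟨⟨_, k, rfl⟩, hk⟩ := h1
    exact ⟨k, hk⟩

/-- Prime step: some power of `f ∉ J` kills the element. -/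
theorem exists_pow_smul_eq_zero [IsNoetherianRing A₀] [Algebra.FiniteType A₀ B₀] (hF : FlatOver A₀ A B₀)
    (J : Ideal A₀) [J.IsPrime] :
    ∃ f : A₀, f ∉ J ∧ ∀ (N : Type u) [AddCommGroup N] [Module A N] [Module A₀ N] [IsScalarTower A₀ A N]
      (ι : Type u) (N' : ι → Type u) [∀ i, AddCommGroup (N' i)] [∀ i, Module A (N' i)] [∀ i, Module A₀ (N' i)]
      [∀ i, IsScalarTower A₀ A (N' i)] (v : ∀ i, N →ₗ[A] N' i),
      Detects v → (∀ j ∈ J, ∀ m : N, j • m = 0) → ∀ b : N ⊗[A₀] B₀, (∀ i, tmap B₀ (v i) b = 0) →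
        ∃ k : ℕ, algebraMap A₀ A (f ^ k) • b = 0 := by
  classical
  obtain ⟨f, hf, κ, e, h⟩ := exists_coords (A := A) (B₀ := B₀) J
  refine ⟨f, hf, fun N _ _ _ _ ι N' _ _ _ _ v hd hN b hb => ?_⟩
  obtain ⟨K, T, m, hbm⟩ := (h N hN).1 b
  have hkill : ∀ i ∈ T, ∃ k : ℕ, algebraMap A₀ A f ^ k • m i = 0 := by
    intro i hi
    refine hd _ _ fun j => ?_
    have hR : ∀ r ∈ J, ∀ y : LinearMap.range (v j), r • y = 0 := by
      rintro r hr ⟨_, y, rfl⟩
      apply Subtype.ext
      show r • v j y = 0
      rw [← algebraMap_smul A r, ← map_smul, algebraMap_smul, hN r hr, map_zero]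
    have h0 : tmap B₀ (v j).rangeRestrict b = 0 := by
      apply hF (N' j) _ (LinearMap.range (v j)).subtype Subtype.val_injective
      rw [map_zero, ← tmap_comp,
        show (LinearMap.range (v j)).subtype ∘ₗ (v j).rangeRestrict = v j from LinearMap.ext fun _ => rfl, hb]
    have h1 := congrArg (tmap B₀ (v j).rangeRestrict) hbm
    rw [map_smul, h0, smul_zero, map_sum] at h1
    obtain ⟨k, hk⟩ := (h _ hR).2 T (fun l => (v j).rangeRestrict (m l)) h1.symm i hi
    exact ⟨k, congrArg Subtype.val hk⟩
  choose! k hk using hkill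
  refine ⟨T.sup k + K, ?_⟩
  rw [pow_add, map_mul, mul_smul, hbm, Finset.smul_sum]
  refine Finset.sum_eq_zero fun i hi => ?_
  rw [TensorProduct.smul_tmul', ← Nat.sub_add_cancel (Finset.le_sup (f := k) hi), map_pow, pow_add, mul_smul,
    hk i hi, smul_zero, TensorProduct.zero_tmul]

/-- The dévissage. -/
theorem claim [IsNoetherianRing A₀] [Algebra.FiniteType A₀ B₀] (hF : FlatOver A₀ A B₀) (J : Ideal A₀) :
    Claim A B₀ J := by
  induction J using IsNoetherian.induction with
  | hgt J ih =>
    have hlt : ∀ a ∉ J, J < J ⊔ Ideal.span {a} := fun a ha =>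
      lt_of_le_of_ne le_sup_left fun h =>
        ha (h ▸ Ideal.mem_sup_right (Ideal.mem_span_singleton_self a))
    by_cases htop : J = ⊤
    · intro N _ _ _ _ _ _ _ _ _ _ _ _ hN b _
      have : Subsingleton N := ⟨fun x y => by
        rw [← one_smul A₀ x, ← one_smul A₀ y, hN 1 (htop ▸ Submodule.mem_top),
          hN 1 (htop ▸ Submodule.mem_top)]⟩
      exact Subsingleton.elim _ _
    by_cases hp : ∀ {a c : A₀}, a * c ∈ J → a ∈ J ∨ c ∈ J
    · have : Ideal.IsPrime J := ⟨htop, hp⟩
      obtain ⟨f, hf, hkill⟩ := exists_pow_smul_eq_zero hF J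
      intro N _ _ _ _ ι N' _ _ _ _ v hd hN b hb
      obtain ⟨k, hk⟩ := hkill N ι N' v hd hN b hb
      induction k generalizing b with
      | zero => simpa using hk
      | succ k ihk =>
        refine eq_zero_of_smul_eq_zero hF f (ih _ (hlt f hf)) hd hN b hb (ihk _ (fun i => ?_) ?_)
        · rw [map_smul, hb, smul_zero]
        · rwa [← mul_smul, ← map_mul, ← pow_succ]
    · simp only [not_forall, not_or] at hp
      obtain ⟨a, c, hac, ha, hc⟩ := hp
      exact step_nonprime hF a c hac (ih _ (hlt a ha)) (ih _ (hlt c hc))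

theorem flatOver_of_flat [Module.Flat A (A ⊗[A₀] B₀)] : FlatOver A₀ A B₀ := by
  intro N N' _ _ _ _ _ _ _ _ i hi
  have h1 := Module.Flat.rTensor_preserves_injective_linearMap (M := A ⊗[A₀] B₀) i hi
  have h2 : ⇑(AlgebraTensorModule.map i (LinearMap.id : B₀ →ₗ[A₀] B₀)) ∘
        ⇑(AlgebraTensorModule.cancelBaseChange A₀ A A N' B₀) =
      ⇑(AlgebraTensorModule.cancelBaseChange A₀ A A N B₀) ∘ ⇑(i.rTensor (A ⊗[A₀] B₀)) := by
    funext z
    induction z using TensorProduct.induction_on with
    | zero => simp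
    | tmul x y =>
      induction y using TensorProduct.induction_on with
      | zero => simp
      | tmul a c => simp
      | add y z hy hz =>
        simp only [Function.comp_apply, TensorProduct.tmul_add, map_add] at hy hz ⊢
        rw [hy, hz]
    | add y z hy hz =>
      simp only [Function.comp_apply, map_add] at hy hz ⊢
      rw [hy, hz]
  refine Function.Injective.of_comp_right ?_ (AlgebraTensorModule.cancelBaseChange A₀ A A N' B₀).surjective
  rw [h2]
  exact (LinearEquiv.injective _).comp h1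

/-- A detecting family stays jointly injective after a flat base change of finite presentation. -/
theorem eq_zero_of_flat_finitePresentation {A B : Type u} [CommRing A] [CommRing B] [Algebra A B]
    [Module.Flat A B] [Algebra.FinitePresentation A B] {M : Type u} [AddCommGroup M] [Module A M]
    {ι : Type u} {N : ι → Type u} [∀ i, AddCommGroup (N i)] [∀ i, Module A (N i)] (v : ∀ i, M →ₗ[A] N i)
    (hv : Detects v) (z : M ⊗[A] B) (hz : ∀ i, (v i).rTensor B z = 0) : z = 0 := by
  let P := Algebra.Presentation.ofFinitePresentation A B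
  have : IsNoetherianRing P.Core := Algebra.FiniteType.isNoetherianRing ℤ _
  let B₀ := P.ModelOfHasCoeffs P.Core
  let e : A ⊗[P.Core] B₀ ≃ₐ[A] B := P.tensorModelOfHasCoeffsEquiv P.Core
  have : Module.Flat A (A ⊗[P.Core] B₀) := Module.Flat.of_linearEquiv e.toLinearEquiv
  letI : Module P.Core M := Module.compHom M (algebraMap P.Core A)
  haveI : IsScalarTower P.Core A M := IsScalarTower.of_algebraMap_smul fun _ _ => rfl
  letI : ∀ i, Module P.Core (N i) := fun i => Module.compHom (N i) (algebraMap P.Core A)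
  haveI : ∀ i, IsScalarTower P.Core A (N i) := fun i => IsScalarTower.of_algebraMap_smul fun _ _ => rfl
  let θ : ∀ (X : Type u) [AddCommGroup X] [Module A X] [Module P.Core X] [IsScalarTower P.Core A X],
      X ⊗[A] B ≃ₗ[A] X ⊗[P.Core] B₀ := fun X _ _ _ _ =>
    (LinearEquiv.lTensor X e.symm.toLinearEquiv).trans (AlgebraTensorModule.cancelBaseChange P.Core A A X B₀)
  apply (θ M).injective
  rw [map_zero]
  refine claim flatOver_of_flat ⊥ M ι N v hv ?_ _ fun i => ?_
  · intro j hj m
    rw [Ideal.mem_bot.1 hj, zero_smul]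
  · have hnat : ∀ w, tmap B₀ (v i) (θ M w) = θ (N i) ((v i).rTensor B w) := by
      intro w
      induction w using TensorProduct.induction_on with
      | zero => simp
      | add x y hx hy => simp only [map_add, hx, hy]
      | tmul x y =>
        simp only [θ, LinearEquiv.trans_apply, LinearEquiv.lTensor_tmul, LinearMap.rTensor_tmul]
        generalize e.symm.toLinearEquiv y = t
        induction t using TensorProduct.induction_on with
        | zero => simp
        | tmul a c => simp
        | add s t hs ht => simp only [TensorProduct.tmul_add, map_add, hs, ht]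
    rw [hnat, hz, map_zero]

end Groth.Agent.SepFlat5
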